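import Groth.Agent.FCohLib.Stable
import Mathlib.RingTheory.AdicCompletion.Noetherian

/-!
# Shift equations in sections of coherent modules over affine opens
-/

set_option autoImplicit false
set_option linter.style.haveILetI false
set_option maxHeartbeats 800000

universe u

open CategoryTheory CategoryTheory.Limits AlgebraicGeometry TopologicalSpace Opposite FSch
open FModLib (MSec RSec oK mres rres)

noncomputable section

namespace FColocLib

variable {𝔛 : Sys.{u}} (hloc : 𝔛.IsLocNoethFormal) {U : (𝔛.X 0).Opens}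

/-- A function nilpotent of bounded order on every level. -/
def TopNil (t : RSec (𝔛.Osh hloc.1) U) : Prop := ∀ k, oK hloc.1 k U (t ^ (k + 1)) = 0

variable {hloc} {t : RSec (𝔛.Osh hloc.1) U}

theorem TopNil.mul (ht : TopNil hloc t) (a : RSec (𝔛.Osh hloc.1) U) : TopNil hloc (t * a) := fun k => by
  show ((𝔛.OshProj hloc.1 k).hom.app (op U)).hom ((t * a) ^ (k + 1)) = 0
  rw [mul_pow, map_mul, show ((𝔛.OshProj hloc.1 k).hom.app (op U)).hom (t ^ (k + 1)) = 0 from ht k]
  exact zero_mul _

/-- Shift equations can be solved in functions over affine opens. -/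
theorem exists_shift (hU : IsAffineOpen U) (ht : TopNil hloc t) (c : ℕ → RSec (𝔛.Osh hloc.1) U) :
    ∃ a : ℕ → RSec (𝔛.Osh hloc.1) U, (∀ i, a i = c i + t * a (i + 1)) ∧
      ((∀ i, c i = c 0) → ∀ i, a i = a 0) := by
  let π : ∀ k, RSec (𝔛.Osh hloc.1) U →+* RSec (𝔛.X k).sheaf (𝔛.lvU hloc.1 k U) :=
    fun k => ((𝔛.OshProj hloc.1 k).hom.app (op U)).hom
  let P : ℕ → ℕ → RSec (𝔛.Osh hloc.1) U := fun i k => ∑ m ∈ Finset.range (k + 1), t ^ m * c (i + m)
  have hP : ∀ i k, ∀ l ≥ k, π k (P i l) = π k (P i k) := by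
    intro i k l hl
    induction hl with
    | refl => rfl
    | @step l hl ih =>
      show π k (∑ m ∈ Finset.range (l + 1 + 1), t ^ m * c (i + m)) = _
      rw [Finset.sum_range_succ, map_add]
      refine (congrArg (fun q => π k (P i l) + q) ?_).trans ((add_zero _).trans ih)
      obtain ⟨d, hd⟩ := Nat.le.dest hl
      rw [map_mul, show l + 1 = (k + 1) + d by omega, pow_add, map_mul, show π k (t ^ (k + 1)) = 0 from ht k,
        zero_mul, zero_mul]
  choose a ha using fun i => (FModLib.toLim_bijective hloc.1 U hU).2 ⟨fun k => π k (P i k),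
    fun k => (FModLib.oProj_succ hloc.1 U k _).trans (hP i k (k + 1) (Nat.le_succ k))⟩
  have ha' : ∀ i k, π k (a i) = π k (P i k) := fun i k => congrArg (fun x => x.1 k) (ha i)
  refine ⟨a, fun i => FModLib.oSec_ext hloc.1 U fun k => ?_, fun hc i => FModLib.oSec_ext hloc.1 U fun k => ?_⟩
  · show π k (a i) = π k (c i + t * a (i + 1))
    rw [map_add, map_mul, ha', ha', ← hP i k (k + 1) (Nat.le_succ k)]
    show π k (∑ m ∈ Finset.range (k + 1 + 1), t ^ m * c (i + m)) = _
    rw [Finset.sum_range_succ', map_add, pow_zero, one_mul, add_zero, add_comm]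
    refine congrArg (fun q => π k (c i) + q) ?_
    show _ = π k t * π k (∑ m ∈ Finset.range (k + 1), t ^ m * c (i + 1 + m))
    rw [← map_mul, Finset.mul_sum]
    refine congrArg (π k) (Finset.sum_congr rfl fun m _ => ?_)
    rw [show i + (m + 1) = i + 1 + m by omega, pow_succ']
    ring
  · show π k (a i) = π k (a 0)
    rw [ha', ha']
    refine congrArg (π k) (Finset.sum_congr rfl fun m _ => ?_)
    rw [hc (i + m), hc (0 + m)]

/-- Functions nilpotent on every level lie in the Jacobson radical. -/
theorem mem_jacobson (hU : IsAffineOpen U) (ht : TopNil hloc t) :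
    t ∈ Ideal.jacobson (⊥ : Ideal (RSec (𝔛.Osh hloc.1) U)) := by
  rw [Ideal.mem_jacobson_bot]
  intro y
  obtain ⟨a, ha, hc⟩ := exists_shift hU (ht.mul (-y)) fun _ => 1
  refine IsUnit.of_mul_eq_one (a 0) ?_
  have h := ha 0
  rw [hc (fun _ => rfl) 1] at h
  linear_combination h

variable {M : ModF 𝔛 hloc.1}

/-- **Shift equations have unique solutions in sections of coherent modules over affine opens.** -/
theorem existsUnique_shift (hM : IsCohF 𝔛 hloc.1 M) (hU : IsAffineOpen U) (ht : TopNil hloc t) :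
    (∀ a : ℕ → MSec M U, (∀ i, a i = t • a (i + 1)) → ∀ i, a i = 0) ∧
      ∀ c : ℕ → MSec M U, ∃ a : ℕ → MSec M U, ∀ i, a i = c i + t • a (i + 1) := by
  obtain ⟨I, hN, -⟩ := FCohLib.exists_adic hloc hU
  have hfin : Module.Finite (RSec (𝔛.Osh hloc.1) U) (MSec M U) := FCohLib.finite_sec hloc hM hU
  constructor
  · intro a ha i
    have hle : Ideal.span {t} ≤ Ideal.jacobson (⊥ : Ideal (RSec (𝔛.Osh hloc.1) U)) := by
      rw [Ideal.span_le, Set.singleton_subset_iff]
      exact mem_jacobson hU ht
    have hH := IsHausdorff.of_le_jacobson (Ideal.span {t}) (MSec M U) hle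
    refine hH.haus' (a i) fun n => ?_
    rw [SModEq.zero, Ideal.span_singleton_pow]
    have key : ∀ m, a i = t ^ m • a (i + m) := by
      intro m
      induction m with
      | zero => simp
      | succ m ih => rw [ih, ha (i + m), smul_smul, ← pow_succ, add_assoc]
    rw [key n]
    exact Submodule.smul_mem_smul (Ideal.mem_span_singleton_self _) trivial
  · intro c
    obtain ⟨r, g, hg⟩ := Submodule.fg_iff_exists_fin_generating_family.1 hfin.fg_top
    have hrep : ∀ i, ∃ f : Fin r → RSec (𝔛.Osh hloc.1) U, ∑ j, f j • g j = c i := fun i =>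
      (Submodule.mem_span_range_iff_exists_fun _).1 (hg ▸ Submodule.mem_top)
    choose f hf using hrep
    choose b hb using fun j => exists_shift hU ht fun i => f i j
    refine ⟨fun i => ∑ j, b j i • g j, fun i => ?_⟩
    rw [← hf i, Finset.smul_sum, ← Finset.sum_add_distrib]
    refine Finset.sum_congr rfl fun j _ => ?_
    rw [smul_smul, ← add_smul, ← (hb j).1 i]

end FColocLib

end
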