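import Groth.Agent.ModCohLib.TruncLim
import Groth.Agent.ModCohLib.Push

/-!
# Maps out of free modules in the derived category see the sections of cohomology
-/

set_option autoImplicit false
set_option linter.style.haveILetI false
set_option backward.isDefEq.respectTransparency false

universe u

open CategoryTheory CategoryTheory.Limits Pretriangulated DerivedCategory DerivedCategory.TStructure
open Groth.Agent Groth.Agent.ModCohLib

attribute [local instance] HasDerivedCategory.standard

noncomputable section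

namespace FColocLib

variable {C : Type u} [SmallCategory C] {J : GrothendieckTopology C} {O : Sheaf J CommRingCat.{u}}
  {U : C} {j : ℤ} {G G' : DerivedCategory (ModSite.Mod O)}

/-- A map out of the free module in the derived category, on cohomology. -/
def Φ (x : dgen O U j ⟶ G) : ModSite.freeOn O U ⟶ (homologyFunctor (ModSite.Mod O) j).obj G :=
  (singleFunctorCompHomologyFunctorIso (ModSite.Mod O) j).inv.app (ModSite.freeOn O U) ≫
    (homologyFunctor (ModSite.Mod O) j).map x

theorem Φ_comp (x : dgen O U j ⟶ G) (g : G ⟶ G') :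
    Φ (x ≫ g) = Φ x ≫ (homologyFunctor (ModSite.Mod O) j).map g := by
  simp [Φ]

theorem Φ_single_comp (m : ModSite.freeOn O U ⟶ ModSite.freeOn O U) (x : dgen O U j ⟶ G) :
    Φ ((singleFunctor (ModSite.Mod O) j).map m ≫ x) = m ≫ Φ x := by
  simp only [Φ, Functor.map_comp, ← Category.assoc]
  refine congrArg (fun q => q ≫ (homologyFunctor (ModSite.Mod O) j).map x) ?_
  exact ((singleFunctorCompHomologyFunctorIso (ModSite.Mod O) j).inv.naturality m).symm

theorem Φ_add (x y : dgen O U j ⟶ G) : Φ (x + y) = Φ x + Φ y := by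
  simp [Φ]

theorem bijective_Φ_single (N : ModSite.Mod O) :
    Function.Bijective (Φ : (dgen O U j ⟶ (singleFunctor (ModSite.Mod O) j).obj N) → _) := by
  let e := singleFunctorCompHomologyFunctorIso (ModSite.Mod O) j
  have key : ∀ f : ModSite.freeOn O U ⟶ N, Φ ((singleFunctor (ModSite.Mod O) j).map f) = f ≫ e.inv.app N :=
    fun f => (e.inv.naturality f).symm
  constructor
  · intro x y h
    obtain ⟨f, rfl⟩ := (singleFunctor (ModSite.Mod O) j).map_surjective x
    obtain ⟨g, rfl⟩ := (singleFunctor (ModSite.Mod O) j).map_surjective y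
    rw [key, key, cancel_mono] at h
    rw [h]
  · intro f
    refine ⟨(singleFunctor (ModSite.Mod O) j).map (f ≫ e.hom.app N), (key _).trans ?_⟩
    rw [Category.assoc, Iso.hom_inv_id_app]
    exact Category.comp_id _

theorem bijective_Φ_iff (g : G ⟶ G') (hg : GenBij g j U) [IsIso ((homologyFunctor (ModSite.Mod O) j).map g)] :
    Function.Bijective (Φ : (dgen O U j ⟶ G) → _) ↔ Function.Bijective (Φ : (dgen O U j ⟶ G') → _) := by
  let e := asIso ((homologyFunctor (ModSite.Mod O) j).map g)
  have h : (Φ : (dgen O U j ⟶ G') → _) ∘ (fun x : dgen O U j ⟶ G => x ≫ g) = e.homToEquiv ∘ Φ :=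
    funext fun x => Φ_comp x g
  rw [← Function.Bijective.of_comp_iff _ hg, h]
  exact (Equiv.comp_bijective _ e.homToEquiv).symm

theorem hom_shift_eq_zero' {X : DerivedCategory (ModSite.Mod O)} (h : ∀ x : dgen O U (j + 1) ⟶ X, x = 0)
    (x : dgen O U j ⟶ X⟦(1 : ℤ)⟧) : x = 0 := by
  let e := ((singleFunctors (ModSite.Mod O)).shiftIso 1 j (j + 1) (by omega)).app (ModSite.freeOn O U)
  obtain ⟨z, hz⟩ := (shiftFunctor (DerivedCategory (ModSite.Mod O)) (1 : ℤ)).map_surjective (e.hom ≫ x)
  rw [h z, Functor.map_zero] at hz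
  exact (cancel_epi e.hom).1 (hz.symm.trans comp_zero.symm)

/-- Acyclicity of the cohomology sheaves on `U`. -/
def Acyc (U : C) (G : DerivedCategory (ModSite.Mod O)) : Prop :=
  ∀ (m : ℤ) (k : ℕ), 0 < k → Subsingleton (ModSite.HU O ((homologyFunctor (ModSite.Mod O) m).obj G) k U)

theorem bijective_Φ_of_isGE (a : ℤ) [G.IsGE a] (hG : Acyc U G) :
    Function.Bijective (Φ : (dgen O U j ⟶ G) → _) := by
  let X := (t.truncLE j).obj G
  haveI : X.IsLE j := inferInstance
  haveI : X.IsGE a := by
    rw [isGE_iff]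
    intro i hi
    by_cases hij : i ≤ j
    · haveI := DerLib.Devissage.isIso_homology_truncLEι G j i hij
      exact (isZero_of_isGE G a i hi).of_iso (asIso ((homologyFunctor _ i).map ((t.truncLEι j).app G)))
    · exact isZero_of_isLE X j i (by omega)
  haveI : ((t.truncGT j).obj G).IsGE (j + 1) := inferInstance
  haveI : ((t.truncGT j).obj G).IsGE (j - 1 + 1) := t.isGE_of_ge _ (j - 1 + 1) (j + 1) (by omega)
  have hι : GenBij ((t.truncLEι j).app G) j U :=
    (genBij_of_triangle _ (t.triangleLEGT_distinguished j G) U j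
      (fun x => dgen_hom_eq_zero_of_isGE U j ((t.truncGT j).obj G) x)
      (fun x => dgen_hom_eq_zero_of_isGE U (j - 1) ((t.truncGT j).obj G) x)).1
  haveI := DerLib.Devissage.isIso_homology_truncLEι G j j le_rfl
  refine (bijective_Φ_iff _ hι).1 ?_
  let Z := (t.truncLT j).obj X
  haveI : Z.IsLE (j - 1) := inferInstance
  haveI : Z.IsGE a := by
    rw [isGE_iff]
    intro i hi
    by_cases hij : i ≤ j - 1
    · haveI : IsIso ((homologyFunctor (ModSite.Mod O) i).map ((t.truncLTι j).app X)) :=
          DerLib.Devissage.isIso_homologyMap_mor₁ _ (t.triangleLTGE_distinguished j X) i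
            (isZero_of_isGE ((t.truncGE j).obj X) j i (by omega))
            (isZero_of_isGE ((t.truncGE j).obj X) j (i - 1) (by omega))
      exact (isZero_of_isGE X a i hi).of_iso (asIso ((homologyFunctor _ i).map ((t.truncLTι j).app X)))
    · exact isZero_of_isLE Z (j - 1) i (by omega)
  have hv : ∀ j' : ℤ, j ≤ j' → ∀ x : dgen O U j' ⟶ Z, x = 0 := fun j' hj x =>
    dgen_hom_eq_zero U j' a Z (fun m k hmk => by
      by_cases hm : m ≤ j - 1
      · haveI : IsIso ((homologyFunctor (ModSite.Mod O) m).map ((t.truncLTι j).app X)) :=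
          DerLib.Devissage.isIso_homologyMap_mor₁ _ (t.triangleLTGE_distinguished j X) m
            (isZero_of_isGE ((t.truncGE j).obj X) j m (by omega))
            (isZero_of_isGE ((t.truncGE j).obj X) j (m - 1) (by omega))
        haveI := DerLib.Devissage.isIso_homology_truncLEι G j m (by omega)
        exact subsingleton_HU_of_iso (asIso ((homologyFunctor _ m).map ((t.truncLTι j).app X)) ≪≫
          asIso ((homologyFunctor _ m).map ((t.truncLEι j).app G))) k U (hG m k (by omega))
      · exact subsingleton_HU_of_isZero (isZero_of_isLE Z (j - 1) m (by omega)) k U) x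
  have hπ : GenBij ((t.truncGEπ j).app X) j U :=
    (genBij_of_triangle _ (rot_of_distTriang _ (t.triangleLTGE_distinguished j X)) U j
      (hom_shift_eq_zero' (X := Z) (hv (j + 1) (by omega)))
      (hom_shift_eq_zero' (X := Z) (hv (j - 1 + 1) (by omega)))).1
  haveI := ModCohLib.isIso_homology_truncGEπ X j j le_rfl
  refine (bijective_Φ_iff _ hπ).2 ?_
  let W := (t.truncGE j).obj X
  haveI : W.IsGE j := inferInstance
  haveI : W.IsLE j := by
    rw [isLE_iff]
    intro i hi
    haveI := ModCohLib.isIso_homology_truncGEπ X j i (by omega)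
    exact (isZero_of_isLE X j i hi).of_iso (asIso ((homologyFunctor _ i).map ((t.truncGEπ j).app X))).symm
  obtain ⟨e⟩ := DerLib.Devissage.nonempty_iso_single W j
  have he : GenBij e.hom j U := e.homToEquiv.bijective
  exact (bijective_Φ_iff e.hom he).2 (bijective_Φ_single _)

/-- **Maps out of the free module are the sections of cohomology** when cohomology sheaves are acyclic on a basis. -/
theorem bijective_Φ (B : Set C)
    (hB : ∀ U : C, ∃ (ι : Type u) (Y : ι → C) (g : ∀ i, Y i ⟶ U), Sieve.ofArrows Y g ∈ J U ∧ ∀ i, Y i ∈ B)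
    (hU : U ∈ B) (hG : ∀ V ∈ B, Acyc V G) :
    Function.Bijective (Φ : (dgen O U j ⟶ G) → _) := by
  have hv : TowerVanish G B := fun i V _ => ⟨(-i).toNat, cofinalCover_of_forall _ B hB
    (fun W hW n hn k hk => hG W hW _ k (by omega)) V⟩
  let n₀ : ℕ := (-j).toNat
  have hb := genBij_toTruncTower G B hB hv U j n₀ (fun n hn k hk => hG U hU _ k (by omega)) n₀ le_rfl
  haveI := ModCohLib.isIso_homology_truncGEπ G (-(n₀ : ℤ)) j (by omega)
  refine (bijective_Φ_iff _ hb).2 ?_
  haveI : (CohCx.truncTower G n₀).IsGE (-(n₀ : ℤ)) :=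
    inferInstanceAs (t.IsGE ((t.truncGE (-(n₀ : ℤ))).obj G) _)
  refine bijective_Φ_of_isGE (-(n₀ : ℤ)) fun m k hk => ?_
  by_cases hm : -(n₀ : ℤ) ≤ m
  · haveI := ModCohLib.isIso_homology_truncGEπ G (-(n₀ : ℤ)) m hm
    exact subsingleton_HU_of_iso
      (asIso ((homologyFunctor (ModSite.Mod O) m).map (CohCx.toTruncTower G n₀))).symm k _ (hG U hU m k hk)
  · exact subsingleton_HU_of_isZero (isZero_homology_truncTower G n₀ m (by omega)) k _

end FColocLib

end
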