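import Groth.Agent.DTorsLib.Cut
import Groth.Agent.DTorsLib.DivClosure
import Groth.Agent.ModSiteLib.FreeOn

/-!
# Supports of extensions by zero
-/

set_option autoImplicit false
set_option linter.style.haveILetI false
set_option backward.isDefEq.respectTransparency false
set_option maxHeartbeats 800000

universe u

open CategoryTheory CategoryTheory.Limits AlgebraicGeometry TopologicalSpace Opposite FSch
open FModLib (MSec RSec mres rres)
open ModSiteLib (PMod aP jP adjP oLan oRes oLanAdj mfib mι)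

noncomputable section

namespace FColocLib

section Top

variable {X : TopCat.{u}} {O : Sheaf (Opens.grothendieckTopology X) CommRingCat.{u}} {U : Opens X}
  {M : ModSite.Mod O}

/-- Sections of an extension by zero vanish near points outside the open. -/
theorem eq_zero_res {W : Opens X} (x : MSec ((DTorsLib.OpenExt.E O U).obj M) W) {p : X} (hp : p ∈ W)
    (hpU : p ∉ U) :
    ∃ (W' : Opens X) (h : W' ≤ W), p ∈ W' ∧ mres ((DTorsLib.OpenExt.E O U).obj M) h x = 0 := by
  let P := (oLan O U).obj ((oRes O U).obj ((jP O).obj M))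
  have hW := _root_.ModSiteLib.W_unit O P
  rw [GrothendieckTopology.W_iff_isLocallyBijective] at hW
  haveI := hW.2
  obtain ⟨W', g, ⟨z, hz⟩, hpW⟩ := FCohLib.exists_of_loc_opens
    (_root_.ModSiteLib.loc_of_isLocallySurjective ((adjP O).unit.app P) (V := W) x) hp
  haveI : IsEmpty ((op W').unop ⟶ U) := ⟨fun f => hpU (f.le hpW)⟩
  have hz0 : z = 0 := by
    have e : (𝟙 (∐ mfib ((oRes O U).obj ((jP O).obj M)) (op W'))) = 0 :=
      Limits.Sigma.hom_ext _ _ fun f => isEmptyElim f
    exact congr($(e).hom z)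
  refine ⟨W', g.le, hpW, hz.symm.trans ?_⟩
  rw [hz0]
  exact map_zero _

/-- The map back from an extension by zero is a monomorphism. -/
theorem mono_ε : Mono ((DTorsLib.OpenExt.ε O U).app M) := by
  refine _root_.ModSiteLib.mono_of_injective_ap _ fun W a b hab => sub_eq_zero.1
    (FCohLib.eq_zero_of_points _ _ fun p hp => ?_)
  by_cases hpU : p ∈ U
  · refine ⟨W ⊓ U, inf_le_left, ⟨hp, hpU⟩, DTorsLib.OpenExt.ε_injective inf_le_right ?_⟩
    refine (DTorsLib.OpenExt.app_mres' _ _ _).trans (Eq.trans ?_ (map_zero _).symm)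
    exact (congrArg (mres M inf_le_left) ((map_sub _ _ _).trans (sub_eq_zero.2 hab))).trans (map_zero _)
  · exact eq_zero_res _ hp hpU

/-- A module whose sections vanish near points outside the open is extended by zero from it. -/
theorem isIso_ε_of_supported
    (h : ∀ (W : Opens X) (x : MSec M W), ∀ p ∈ W, p ∉ U → ∃ (W' : Opens X) (k : W' ≤ W), p ∈ W' ∧ mres M k x = 0) :
    IsIso ((DTorsLib.OpenExt.ε O U).app M) := by
  haveI := mono_ε (O := O) (U := U) (M := M)
  haveI : Epi ((DTorsLib.OpenExt.ε O U).app M) := _root_.ModSiteLib.epi_of_loc_surjective _ fun W x => by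
    refine ⟨⟨fun W' => {g : W' ⟶ W | ∃ s, ((DTorsLib.OpenExt.ε O U).app M).val.app (op W') s =
      M.val.map g.op x}, fun {W' W''} g hg k => by
        obtain ⟨s, hs⟩ := hg
        refine ⟨((DTorsLib.OpenExt.E O U).obj M).val.map k.op s,
          (PresheafOfModules.naturality_apply ((DTorsLib.OpenExt.ε O U).app M).val k.op s).trans ?_⟩
        exact (congrArg (M.val.map k.op) hs).trans (M.val.presheaf.map_comp_apply g.op k.op x).symm⟩,
      fun p hp => ?_, fun _ _ hg => hg⟩
    by_cases hpU : p ∈ U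
    · obtain ⟨s, hs⟩ := DTorsLib.OpenExt.ε_surjective (M := M) (inf_le_right : W ⊓ U ≤ U) (mres M inf_le_left x)
      exact ⟨W ⊓ U, homOfLE inf_le_left, ⟨s, hs⟩, ⟨hp, hpU⟩⟩
    · obtain ⟨W', k, hp', hk⟩ := h W x p hp hpU
      exact ⟨W', homOfLE k, ⟨0, (map_zero _).trans hk.symm⟩, hp'⟩
  exact isIso_of_mono_of_epi _

/-- The free module on an open is extended by zero from it. -/
theorem isIso_ε_freeOn : IsIso ((DTorsLib.OpenExt.ε O U).app (ModSite.freeOn O U)) := by
  haveI := mono_ε (O := O) (U := U) (M := ModSite.freeOn O U)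
  let e := _root_.ModSiteLib.freeOnEquiv (O := O) (ModSite.freeOn O U) U
  let s := (_root_.ModSiteLib.freeOnEquiv ((DTorsLib.OpenExt.E O U).obj (ModSite.freeOn O U)) U).symm
    (DTorsLib.OpenExt.sec le_rfl (e (𝟙 _)))
  haveI : IsSplitEpi ((DTorsLib.OpenExt.ε O U).app (ModSite.freeOn O U)) := IsSplitEpi.mk' ⟨s, e.injective <|
    (_root_.ModSiteLib.freeOnEquiv_comp U s _).trans (by
      simp only [s, Equiv.apply_symm_apply]
      exact DTorsLib.OpenExt.ε_sec le_rfl _)⟩
  exact isIso_of_mono_of_epi _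

end Top

variable {𝔛 : Sys.{u}} (hloc : 𝔛.IsLocNoethFormal) {U : (𝔛.X 0).Opens} {M : ModF 𝔛 hloc.1}

/-- Extensions by zero of divisible modules are divisible. -/
theorem isDiv_EF (hM : DTorsLib.IsDiv hloc M) : DTorsLib.IsDiv hloc ((DTorsLib.EF hloc U).obj M) := by
  intro V hV σ _ z t W hW s hs n p hp
  let ε := (DTorsLib.εF hloc U).app M
  by_cases hpU : p ∈ U
  · obtain ⟨W₁, h₁, y, hp₁, hy, hy'⟩ := hM V hV σ inferInstance z t (W ⊓ U) (inf_le_left.trans hW)
      (mres M inf_le_left (ε.val.app (op W) s)) (fun l => by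
        refine Eq.trans ?_ ((congrArg (mres M inf_le_left) ((congrArg (ε.val.app (op W)) (hs l)).trans
          (map_zero _))).trans (map_zero _))
        refine Eq.trans ?_ (congrArg (mres M inf_le_left) (DTorsLib.app_smul_eq hloc ε _ s)).symm
        refine Eq.trans ?_ (IndCohLib.mres_smul hloc inf_le_left _ _).symm
        exact congrArg (fun q => (q • _ : MSec M (W ⊓ U))) (FModLib.rres_rres inf_le_left hW (z l)).symm) n p ⟨hp, hpU⟩
    have h1U : W₁ ≤ U := h₁.trans inf_le_right
    refine ⟨W₁, h₁.trans inf_le_left, DTorsLib.OpenExt.sec h1U y, hp₁, fun l => ?_, ?_⟩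
    · refine (DTorsLib.εF_bijective hloc h1U M).1 ?_
      refine (DTorsLib.app_smul_eq hloc ε _ _).trans (Eq.trans ?_ (map_zero _).symm)
      refine Eq.trans ?_ (hy l)
      exact congrArg (fun q : MSec M W₁ => (_ • q : MSec M W₁)) (DTorsLib.OpenExt.ε_sec h1U y)
    · refine (DTorsLib.εF_bijective hloc h1U M).1 ?_
      refine (DTorsLib.app_smul_eq hloc ε _ _).trans (Eq.trans ?_ (DTorsLib.app_smul_eq hloc ε _ _).symm)
      refine Eq.trans (congrArg (fun q : MSec M W₁ => (_ • q : MSec M W₁)) (DTorsLib.OpenExt.ε_sec h1U y))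
        (hy'.trans ?_)
      refine congrArg (fun q : MSec M W₁ => (_ • q : MSec M W₁)) ?_
      exact (FModLib.mres_mres M h₁ inf_le_left _).trans (IndCohLib.app_mres hloc ε (h₁.trans inf_le_left) s).symm
  · obtain ⟨W', h', hp', hs'⟩ := eq_zero_res s hp hpU
    exact ⟨W', h', 0, hp', fun l => smul_zero _, (smul_zero _).trans
      ((congrArg (fun q : MSec ((DTorsLib.EF hloc U).obj M) W' => (_ • q : MSec ((DTorsLib.EF hloc U).obj M) W'))
        hs').trans (smul_zero _)).symm⟩

/-- Torsion of an extension by zero is extended by zero. -/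
theorem isIso_ε_gammaT :
    IsIso ((DTorsLib.εF hloc U).app ((FTors.gammaT 𝔛 hloc.1).obj ((DTorsLib.EF hloc U).obj M))) :=
  isIso_ε_of_supported fun W x p hp hpU => by
    obtain ⟨W', k, hp', hk⟩ := eq_zero_res x.1 hp hpU
    exact ⟨W', k, hp', Subtype.ext hk⟩

/-- Localisations are extended by zero. -/
theorem isIso_ε_Loc (t : RSec (𝔛.Osh hloc.1) U) :
    IsIso ((DTorsLib.εF hloc U).app ((DTorsLib.Loc hloc t).obj M)) := by
  let E := DTorsLib.EF hloc U
  let ε := DTorsLib.εF hloc U
  haveI : Mono (ε.app ((DTorsLib.Loc hloc t).obj M)) := mono_ε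
  haveI : IsIso (ε.app (E.obj M)) := isIso_ε_of_supported fun W x p hp hpU => eq_zero_res x hp hpU
  haveI : Epi (ε.app ((DTorsLib.Loc hloc t).obj M)) := Preadditive.epi_of_cancel_zero _ fun {P} q hq => by
    let D := (DTorsLib.diag hloc t).obj M
    refine colimit.hom_ext fun n => ?_
    rw [comp_zero]
    refine (cancel_epi (ε.app (E.obj M))).1 ?_
    rw [comp_zero]
    refine ((Category.assoc _ _ _).symm.trans (congrArg (fun w => w ≫ q) (ε.naturality (colimit.ι D n)).symm)).trans ?_
    exact (Category.assoc _ _ _).trans ((congrArg (fun w => E.map (colimit.ι D n) ≫ w) hq).trans comp_zero)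
  exact isIso_of_mono_of_epi _

end FColocLib

end
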