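import Groth.Agent.ProjFormLib.DevRing
import Groth.Agent.DTorsLib.Loc
import Groth.Agent.DerLib.KInjUse
import Mathlib.Algebra.Homology.DerivedCategory.ShortExact

/-!
# Maps out of localisations in the derived category
-/

set_option autoImplicit false
set_option linter.style.haveILetI false
set_option backward.isDefEq.respectTransparency false
set_option maxHeartbeats 800000
set_option synthInstance.maxHeartbeats 80000

universe u v w

open CategoryTheory CategoryTheory.Limits AlgebraicGeometry TopologicalSpace Opposite FSch Pretriangulated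
open Groth.Agent HomologicalComplex
open CochainComplex (mappingCone)

attribute [local instance] HasDerivedCategory.standard

noncomputable section

namespace FColocLib

section General

variable {A : Type w} [Category.{v} A] [Abelian A] [IsGrothendieckAbelian.{v} A] [HasDerivedCategory.{w} A]

theorem acyclic_sigma_nat (K : ℕ → CochainComplex A ℤ) [HasCoproduct K] (h : ∀ n, (K n).Acyclic) :
    (∐ K).Acyclic := by
  intro i
  have hU := DerLib.KInjUse.acyclic_sigma (fun n : ULift.{v} ℕ => K n.down) (fun n => h n.down) i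
  have e : (∐ fun n : ULift.{v} ℕ => K n.down) ≅ ∐ K :=
    Sigma.whiskerEquiv Equiv.ulift fun n => Iso.refl (K n.down)
  rw [exactAt_iff_isZero_homology] at hU ⊢
  exact hU.of_iso ((homologyFunctor _ _ i).mapIso e.symm)

/-- Maps out of a countable sum in the derived category are determined by their components. -/
theorem Q_sigma_ext (K : ℕ → CochainComplex A ℤ) [HasCoproduct K]
    [HasCoproduct fun n => mappingCone (𝟙 (K n))] {W : DerivedCategory A}
    {y y' : DerivedCategory.Q.obj (∐ K) ⟶ W}
    (h : ∀ n, DerivedCategory.Q.map (Sigma.ι K n) ≫ y = DerivedCategory.Q.map (Sigma.ι K n) ≫ y') : y = y' := by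
  obtain ⟨I, hI, ⟨eW⟩⟩ := DerLib.KInjUse.exists_iso_Q_kInjective W
  obtain ⟨f, hf⟩ := DerLib.KInjUse.Q_map_surjective (∐ K) I ((y - y') ≫ eW.hom)
  have h0 : ∀ n, (HomotopyCategory.quotient A (ComplexShape.up ℤ)).map (Sigma.ι K n ≫ f) = 0 := fun n =>
    DerLib.KInjUse.quotient_eq_zero_of_Q (by
      rw [Functor.map_comp, hf, Preadditive.sub_comp, Preadditive.comp_sub, ← Category.assoc, ← Category.assoc,
        h n, sub_self])
  choose ψ hψ using fun n => DerLib.KInjUse.exists_factor _ (h0 n)
  have e : f = Limits.Sigma.map (fun n => CochainComplex.mappingCone.inr (𝟙 (K n))) ≫ Sigma.desc ψ :=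
    Limits.Sigma.hom_ext _ _ fun n => by simp [hψ]
  have hz : IsZero (DerivedCategory.Q.obj (∐ fun n => mappingCone (𝟙 (K n)))) :=
    DerLib.KInjUse.isZero_Q_obj (acyclic_sigma_nat _ fun n => DerLib.KInjUse.acyclic_cone_id (K n))
  rw [← sub_eq_zero, ← cancel_mono eW.hom, zero_comp, ← hf, e, Functor.map_comp,
    hz.eq_of_src (DerivedCategory.Q.map (Sigma.desc ψ)) 0, comp_zero]

/-- Components of maps out of a countable sum can be prescribed. -/
theorem Q_sigma_desc (K : ℕ → CochainComplex A ℤ) [HasCoproduct K] {W : DerivedCategory A}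
    (g : ∀ n, DerivedCategory.Q.obj (K n) ⟶ W) :
    ∃ y : DerivedCategory.Q.obj (∐ K) ⟶ W, ∀ n, DerivedCategory.Q.map (Sigma.ι K n) ≫ y = g n := by
  obtain ⟨I, hI, ⟨eW⟩⟩ := DerLib.KInjUse.exists_iso_Q_kInjective W
  choose f hf using fun n => DerLib.KInjUse.Q_map_surjective (K n) I (g n ≫ eW.hom)
  refine ⟨DerivedCategory.Q.map (Sigma.desc f) ≫ eW.inv, fun n => ?_⟩
  rw [← Functor.map_comp_assoc, Sigma.ι_desc, hf, Category.assoc, Iso.hom_inv_id, Category.comp_id]

variable (S : ℕ ⥤ CochainComplex A ℤ) [IsGrothendieckAbelian.{v} (CochainComplex A ℤ)] [HasCoproduct S.obj]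
  [HasCoproduct fun n => mappingCone (𝟙 (S.obj n))] (c : Cocone S)

/-- Maps out of a sequential colimit vanish when the shift equations on maps out of the stages have unique solutions. -/
theorem hom_eq_zero_of_tele (hc : IsColimit c) (G : DerivedCategory A)
    (sep : ∀ a : ∀ n, DerivedCategory.Q.obj (S.obj n) ⟶ G,
      (∀ n, a n = DerivedCategory.Q.map (S.map (homOfLE (Nat.le_add_right n 1))) ≫ a (n + 1)) → ∀ n, a n = 0)
    (sol : ∀ g : ∀ n, DerivedCategory.Q.obj (S.obj n) ⟶ G⟦(-1 : ℤ)⟧, ∃ a : ∀ n, DerivedCategory.Q.obj (S.obj n) ⟶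
      G⟦(-1 : ℤ)⟧, ∀ n, a n = g n + DerivedCategory.Q.map (S.map (homOfLE (Nat.le_add_right n 1))) ≫ a (n + 1))
    (y : DerivedCategory.Q.obj c.pt ⟶ G) : y = 0 := by
  have hS := ProjFormLib.shortExact_tele c hc
  have hT := DerivedCategory.triangleOfSES_distinguished hS
  have hy : DerivedCategory.Q.map (Sigma.desc c.ι.app) ≫ y = 0 := by
    refine Q_sigma_ext S.obj fun n => ?_
    rw [comp_zero, ← Functor.map_comp_assoc, Sigma.ι_desc]
    refine sep (fun k => DerivedCategory.Q.map (c.ι.app k) ≫ y) (fun k => ?_) n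
    rw [← Functor.map_comp_assoc, c.w]
  obtain ⟨y', hy'⟩ := Triangle.yoneda_exact₃ _ hT y hy
  change (DerivedCategory.Q.obj (∐ S.obj))⟦(1 : ℤ)⟧ ⟶ G at y'
  let eG := ((shiftEquiv (DerivedCategory A) (1 : ℤ)).counitIso.app G)
  obtain ⟨z, hz⟩ := (shiftFunctor (DerivedCategory A) (1 : ℤ)).map_surjective (y' ≫ eG.inv)
  obtain ⟨a, ha⟩ := sol fun n => DerivedCategory.Q.map (Sigma.ι S.obj n) ≫ z
  obtain ⟨w, hw⟩ := Q_sigma_desc S.obj a
  have hzw : DerivedCategory.Q.map (ProjFormLib.tele S) ≫ w = z := Q_sigma_ext S.obj fun n => by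
    rw [← Functor.map_comp_assoc, ProjFormLib.ι_tele, Functor.map_sub, Preadditive.sub_comp, hw,
      Functor.map_comp, Category.assoc, hw, sub_eq_iff_eq_add]
    exact ha n
  rw [hy']
  refine (cancel_mono eG.inv).1 ?_
  rw [zero_comp, Category.assoc, ← hz, ← hzw, Functor.map_comp, ← Category.assoc]
  refine (congrArg (fun q => q ≫ (shiftFunctor (DerivedCategory A) (1 : ℤ)).map w) ?_).trans zero_comp
  exact comp_distTriang_mor_zero₃₁ _ hT

end General

variable {𝔛 : Sys.{u}} (hloc : 𝔛.IsLocNoethFormal) {U : (𝔛.X 0).Opens} (t : FModLib.RSec (𝔛.Osh hloc.1) U)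

/-- Multiplication on the extension by zero of a complex. -/
abbrev τC (A : CochainComplex (ModF 𝔛 hloc.1) ℤ) :
    ((DTorsLib.EF hloc U).mapHomologicalComplex (ComplexShape.up ℤ)).obj A ⟶
      ((DTorsLib.EF hloc U).mapHomologicalComplex (ComplexShape.up ℤ)).obj A :=
  (NatTrans.mapHomologicalComplex (DTorsLib.OpenExt.τ t) (ComplexShape.up ℤ)).app A

/-- The sequence of complexes whose colimit is the localisation. -/
def locSeq (A : CochainComplex (ModF 𝔛 hloc.1) ℤ) : ℕ ⥤ CochainComplex (ModF 𝔛 hloc.1) ℤ :=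
  Functor.ofSequence fun _ : ℕ => τC hloc t A

/-- Its cocone to the localisation. -/
def locCocone (A : CochainComplex (ModF 𝔛 hloc.1) ℤ) : Cocone (locSeq hloc t A) where
  pt := ((DTorsLib.Loc hloc t).mapHomologicalComplex (ComplexShape.up ℤ)).obj A
  ι := NatTrans.ofSequence
    (fun n => { f := fun p => colimit.ι ((DTorsLib.diag hloc t).obj (A.X p)) (AsSmall.up.obj n)
                comm' := fun p q _ => ι_colimMap ((DTorsLib.diag hloc t).map (A.d p q)) (AsSmall.up.obj n) })
    fun n => by
      refine HomologicalComplex.hom_ext _ _ fun p => ?_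
      refine Eq.trans ?_ (Category.comp_id _).symm
      refine Eq.trans ?_ (colimit.w ((DTorsLib.diag hloc t).obj (A.X p)) (AsSmall.up.map (homOfLE (Nat.le_add_right n 1))))
      refine congrArg (fun q => q ≫ _) ?_
      exact (congrArg (fun f => f.f p) (Functor.ofSequence_map_homOfLE_succ (fun _ : ℕ => τC hloc t A) n)).trans
        (Functor.ofSequence_map_homOfLE_succ (X := fun _ : ℕ => (DTorsLib.EF hloc U).obj (A.X p))
          (fun _ => (DTorsLib.OpenExt.τ t).app (A.X p)) n).symm

/-- It is a colimit. -/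
def isColimit_locCocone (A : CochainComplex (ModF 𝔛 hloc.1) ℤ) : IsColimit (locCocone hloc t A) :=
  HomologicalComplex.isColimitOfEval _ _ fun p =>
    let F := Functor.ofSequence (X := fun _ : ℕ => (DTorsLib.EF hloc U).obj (A.X p))
      fun _ => (DTorsLib.OpenExt.τ t).app (A.X p)
    let e : F ≅ locSeq hloc t A ⋙ HomologicalComplex.eval _ (ComplexShape.up ℤ) p :=
      NatIso.ofComponents (fun _ => Iso.refl _) (fun {i j} f => by
        obtain ⟨d, rfl⟩ := Nat.le.dest (leOfHom f)
        rw [Subsingleton.elim f (homOfLE (Nat.le_add_right i d))]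
        refine (Category.comp_id _).trans (Eq.trans ?_ (Category.id_comp _).symm)
        clear f
        induction d with
        | zero =>
          exact (F.map_id i).trans ((locSeq hloc t A ⋙ HomologicalComplex.eval _ _ p).map_id i).symm
        | succ d ih =>
          rw [show homOfLE (Nat.le_add_right i (d + 1)) =
            homOfLE (Nat.le_add_right i d) ≫ homOfLE (Nat.le_succ (i + d)) from rfl, Functor.map_comp, Functor.map_comp, ih]
          refine congrArg (fun q => _ ≫ q) ?_
          exact (Functor.ofSequence_map_homOfLE_succ (fun _ => (DTorsLib.OpenExt.τ t).app (A.X p)) (i + d)).trans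
            (congrArg (fun f => f.f p) (Functor.ofSequence_map_homOfLE_succ (fun _ : ℕ => τC hloc t A) (i + d))).symm)
    (IsColimit.precomposeHomEquiv e _).1
      (IsColimit.ofIsoColimit ((Functor.Final.isColimitWhiskerEquiv (AsSmall.equiv (C := ℕ)).functor
          (colimit.cocone ((DTorsLib.diag hloc t).obj (A.X p)))).symm (colimit.isColimit _))
        (Cocone.ext (Iso.refl _) fun n => (Category.comp_id _).trans (Category.id_comp _).symm) : _)

/-- **Maps out of a localisation vanish** when the shift equations on maps out of the extension by zero have unique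
solutions. -/
theorem hom_Loc_eq_zero (A : CochainComplex (ModF 𝔛 hloc.1) ℤ) (G : DerivedCategory (ModF 𝔛 hloc.1))
    (sep : ∀ a : ℕ → (DerivedCategory.Q.obj (((DTorsLib.EF hloc U).mapHomologicalComplex _).obj A) ⟶ G),
      (∀ n, a n = DerivedCategory.Q.map (τC hloc t A) ≫ a (n + 1)) → ∀ n, a n = 0)
    (sol : ∀ g : ℕ → (DerivedCategory.Q.obj (((DTorsLib.EF hloc U).mapHomologicalComplex _).obj A) ⟶ G⟦(-1 : ℤ)⟧),
      ∃ a : ℕ → (DerivedCategory.Q.obj (((DTorsLib.EF hloc U).mapHomologicalComplex _).obj A) ⟶ G⟦(-1 : ℤ)⟧),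
        ∀ n, a n = g n + DerivedCategory.Q.map (τC hloc t A) ≫ a (n + 1))
    (y : DerivedCategory.Q.obj (((DTorsLib.Loc hloc t).mapHomologicalComplex (ComplexShape.up ℤ)).obj A) ⟶ G) :
    y = 0 := by
  have hmap : ∀ n, (locSeq hloc t A).map (homOfLE (Nat.le_add_right n 1)) = τC hloc t A := fun n =>
    Functor.ofSequence_map_homOfLE_succ (fun _ : ℕ => τC hloc t A) n
  refine hom_eq_zero_of_tele (locSeq hloc t A) (locCocone hloc t A) (isColimit_locCocone hloc t A) G
    (fun a ha => sep a fun n => (ha n).trans ?_) (fun g => (sol g).imp fun a ha n => (ha n).trans ?_) y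
  · rw [hmap]
  · rw [hmap]

end FColocLib

end
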