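import Groth.Agent.FColocLib.Complete
import Groth.Agent.FColocLib.Sections
import Groth.Agent.FColocLib.Supp
import Groth.Agent.FColocLib.Tele
import Groth.Agent.DTorsLib.Derived
import Groth.Agent.DTorsLib.RgammaCoprod
import Groth.Agent.IndCohLib.Derived
import Groth.Agent.FCohLib.AlgzVan

/-!
# Complexes with coherent cohomology are local for the derived torsion functor
-/

set_option autoImplicit false
set_option linter.style.haveILetI false
set_option maxHeartbeats 800000
set_option synthInstance.maxHeartbeats 80000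

universe u v w

open CategoryTheory CategoryTheory.Limits AlgebraicGeometry TopologicalSpace Opposite FSch Pretriangulated
open Groth.Agent Groth.Agent.ModCohLib HomologicalComplex
open FModLib (MSec RSec mres rres)

attribute [local instance] HasDerivedCategory.standard

noncomputable section

namespace FColocLib

section Shift

variable {D : Type w} [Category.{v} D] [Preadditive D] {P P' G : D}

/-- The shift equations on maps out of an object with an endomorphism have unique solutions. -/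
def ShiftEq (m : P ⟶ P) (G : D) : Prop :=
  (∀ a : ℕ → (P ⟶ G), (∀ n, a n = m ≫ a (n + 1)) → ∀ n, a n = 0) ∧
    ∀ g : ℕ → (P ⟶ G), ∃ a : ℕ → (P ⟶ G), ∀ n, a n = g n + m ≫ a (n + 1)

theorem shiftEq_iff {m : P ⟶ P} {m' : P' ⟶ P'} (f : P ⟶ P')
    (hf : Function.Bijective fun x : P' ⟶ G => f ≫ x) (hc : m ≫ f = f ≫ m') : ShiftEq m G ↔ ShiftEq m' G := by
  let e := Equiv.ofBijective _ hf
  have he : ∀ x, e x = f ≫ x := fun _ => rfl
  have hm : ∀ x, m ≫ e x = e (m' ≫ x) := fun x => by rw [he, he, ← Category.assoc, hc, Category.assoc]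
  have he0 : e 0 = 0 := comp_zero
  have hadd : ∀ x y, e (x + y) = e x + e y := fun x y => Preadditive.comp_add _ _ _ _ x y
  refine ⟨fun ⟨h₁, h₂⟩ => ⟨fun a ha n => ?_, fun g => ?_⟩, fun ⟨h₁, h₂⟩ => ⟨fun a ha n => ?_, fun g => ?_⟩⟩
  · refine e.injective (Eq.trans ?_ he0.symm)
    exact h₁ (fun k => e (a k)) (fun k => (congrArg e (ha k)).trans (hm _).symm) n
  · obtain ⟨a, ha⟩ := h₂ fun k => e (g k)
    refine ⟨fun k => e.symm (a k), fun k => e.injective ?_⟩
    rw [hadd, ← hm, e.apply_symm_apply, e.apply_symm_apply]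
    exact ha k
  · refine e.symm.injective ((h₁ (fun k => e.symm (a k)) (fun k => e.injective ?_) n).trans ?_)
    · rw [← hm, e.apply_symm_apply, e.apply_symm_apply]
      exact ha k
    · exact (e.eq_symm_apply.2 he0)
  · obtain ⟨a, ha⟩ := h₂ fun k => e.symm (g k)
    refine ⟨fun k => e (a k), fun k => (congrArg e (ha k)).trans ?_⟩
    rw [hadd, e.apply_symm_apply, hm]

theorem endo_conj_aux {C : Type w} [Category.{v} C] {E : C ⥤ C} (τ : E ⟶ E) (ε : E ⟶ 𝟭 C) {X Y : C} (e : X ⟶ Y)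
    [IsIso (ε.app Y)] : τ.app X ≫ ε.app X ≫ e = ε.app X ≫ e ≫ inv (ε.app Y) ≫ τ.app Y ≫ ε.app Y := by
  have hn : ε.app X ≫ e = E.map e ≫ ε.app Y := (ε.naturality e).symm
  rw [hn, reassoc_of% hn, IsIso.hom_inv_id_assoc, ← reassoc_of% (τ.naturality e)]

theorem bijective_comp_iso {f : P ⟶ P'} [IsIso f] : Function.Bijective fun x : P' ⟶ G => f ≫ x :=
  (asIso f).symm.homFromEquiv.bijective

/-- Precomposition along conjugate maps. -/
theorem bijective_precomp_conj {Q Q' : D} {f : P ⟶ P'} {f' : Q ⟶ Q'} (a : P ⟶ Q) (b : P' ⟶ Q') [IsIso a] [IsIso b]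
    (h : a ≫ f' = f ≫ b) (hf : Function.Bijective fun x : P' ⟶ G => f ≫ x) :
    Function.Bijective fun x : Q' ⟶ G => f' ≫ x := by
  refine (Function.Bijective.of_comp_iff' (bijective_comp_iso (f := a) (G := G)) _).1 ?_
  have e : ((fun x : Q ⟶ G => a ≫ x) ∘ fun x : Q' ⟶ G => f' ≫ x) =
      (fun x : P' ⟶ G => f ≫ x) ∘ fun x : Q' ⟶ G => b ≫ x := funext fun x => by
    show a ≫ f' ≫ x = f ≫ b ≫ x
    rw [← Category.assoc, h, Category.assoc]
  rw [e]
  exact hf.comp bijective_comp_iso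

end Shift

variable {𝔛 : Sys.{u}} (hloc : 𝔛.IsLocNoethFormal) {U : (𝔛.X 0).Opens}

/-- Complexes with coherent cohomology. -/
def CohD (G : DerivedCategory (ModF 𝔛 hloc.1)) : Prop := ∀ i : ℤ, IsCohF 𝔛 hloc.1 (SiteCmp.HMod G i)

theorem CohD.shift {G : DerivedCategory (ModF 𝔛 hloc.1)} (hG : CohD hloc G) (n : ℤ) : CohD hloc (G⟦n⟧) := fun i =>
  FCohLib.isCohF_of_iso
    (((DerivedCategory.homologyFunctor (ModF 𝔛 hloc.1) 0).shiftIso n i (n + i) rfl).app G).symm (hG (n + i))

theorem acyc_of_cohD {G : DerivedCategory (ModF 𝔛 hloc.1)} (hG : CohD hloc G) {V : (𝔛.X 0).Opens}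
    (hV : IsAffineOpen V) : Acyc V G := fun m k hk => by
  obtain ⟨n, rfl⟩ : ∃ n, k = n + 1 := ⟨k - 1, by omega⟩
  exact IndCohLib.subsingleton_HU_coh hloc (hG m) hV n

abbrev EC (U : (𝔛.X 0).Opens) : CochainComplex (ModF 𝔛 hloc.1) ℤ ⥤ CochainComplex (ModF 𝔛 hloc.1) ℤ :=
  (DTorsLib.EF hloc U).mapHomologicalComplex (ComplexShape.up ℤ)

/-- The map back from the extension by zero of a complex. -/
def εC (U : (𝔛.X 0).Opens) (K : CochainComplex (ModF 𝔛 hloc.1) ℤ) : (EC hloc U).obj K ⟶ K where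
  f n := (DTorsLib.εF hloc U).app (K.X n)
  comm' i j _ := ((DTorsLib.εF hloc U).naturality (K.d i j)).symm

theorem εC_naturality {K K' : CochainComplex (ModF 𝔛 hloc.1) ℤ} (f : K ⟶ K') :
    εC hloc U K ≫ f = (EC hloc U).map f ≫ εC hloc U K' :=
  HomologicalComplex.hom_ext _ _ fun n => ((DTorsLib.εF hloc U).naturality (f.f n)).symm

variable (t : RSec (𝔛.Osh hloc.1) U)

theorem τC_naturality {K K' : CochainComplex (ModF 𝔛 hloc.1) ℤ} (f : K ⟶ K') :
    τC hloc t K ≫ (EC hloc U).map f = (EC hloc U).map f ≫ τC hloc t K' :=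
  HomologicalComplex.hom_ext _ _ fun n => ((DTorsLib.OpenExt.τ t).naturality (f.f n)).symm

theorem isIso_εC_gen (j : ℤ) : IsIso (εC hloc U (gen (𝔛.Osh hloc.1) U j)) := by
  haveI : ∀ n, IsIso ((εC hloc U (gen (𝔛.Osh hloc.1) U j)).f n) := fun n => by
    by_cases hn : n = j
    · subst hn
      haveI := isIso_ε_freeOn (O := 𝔛.Osh hloc.1) (U := U)
      exact (NatTrans.isIso_app_iff_of_iso (DTorsLib.εF hloc U)
        (singleObjXSelf (ComplexShape.up ℤ) n (ModSite.freeOn (𝔛.Osh hloc.1) U))).2 inferInstance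
    · have hz := isZero_single_obj_X (ComplexShape.up ℤ) j (ModSite.freeOn (𝔛.Osh hloc.1) U) n hn
      exact ⟨0, ((DTorsLib.EF hloc U).map_isZero hz).eq_of_src _ _, hz.eq_of_src _ _⟩
  exact HomologicalComplex.Hom.isIso_of_components _

/-- Multiplication by a function on the free module. -/
def μ : ModSite.freeOn (𝔛.Osh hloc.1) U ⟶ ModSite.freeOn (𝔛.Osh hloc.1) U :=
  haveI := isIso_ε_freeOn (O := 𝔛.Osh hloc.1) (U := U)
  inv ((DTorsLib.εF hloc U).app _) ≫ (DTorsLib.OpenExt.τ t).app _ ≫ (DTorsLib.εF hloc U).app _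

theorem freeOnEquiv_μ {M : ModF 𝔛 hloc.1} (f : ModSite.freeOn (𝔛.Osh hloc.1) U ⟶ M) :
    _root_.ModSiteLib.freeOnEquiv M U (μ hloc t ≫ f) =
      (t • _root_.ModSiteLib.freeOnEquiv M U f : MSec M U) := by
  haveI := isIso_ε_freeOn (O := 𝔛.Osh hloc.1) (U := U)
  let F := ModSite.freeOn (𝔛.Osh hloc.1) U
  let e := _root_.ModSiteLib.freeOnEquiv (O := 𝔛.Osh hloc.1) F U
  have h1 : e (μ hloc t) = (t • e (𝟙 F) : MSec F U) := by
    let ε := (DTorsLib.εF hloc U).app F
    have hg : ε.val.app (op U) (_root_.ModSiteLib.freeOnEquiv _ U (inv ε)) = e (𝟙 F) :=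
      (_root_.ModSiteLib.freeOnEquiv_comp U (inv ε) ε).symm.trans (congrArg e (IsIso.inv_hom_id ε))
    refine (_root_.ModSiteLib.freeOnEquiv_comp U (inv ε) _).trans ?_
    refine (IndCohLib.app_comp hloc ((DTorsLib.OpenExt.τ t).app F) ε _ rfl _).symm.trans ?_
    refine (DTorsLib.OpenExt.ε_τ t le_rfl _).trans ?_
    rw [IndCohLib.rres_self]
    exact congrArg (fun q : MSec F U => (t • q : MSec F U)) hg
  refine (_root_.ModSiteLib.freeOnEquiv_comp U (μ hloc t) f).trans ?_
  refine ((congrArg (f.val.app (op U)) h1).trans ((f.val.app (op U)).hom.map_smul t _)).trans ?_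
  refine congrArg (fun q : MSec M U => (t • q : MSec M U)) ?_
  refine (_root_.ModSiteLib.freeOnEquiv_comp U (𝟙 F) f).symm.trans ?_
  rw [Category.id_comp]

theorem shiftEq_dgen (hU : IsAffineOpen U) (ht : TopNil hloc t) (j : ℤ) (G : DerivedCategory (ModF 𝔛 hloc.1))
    (hG : CohD hloc G) :
    ShiftEq ((DerivedCategory.singleFunctor (ModF 𝔛 hloc.1) j).map (μ hloc t)) G := by
  let M := SiteCmp.HMod G j
  have hb : Function.Bijective (Φ : (dgen (𝔛.Osh hloc.1) U j ⟶ G) → _) :=
    bijective_Φ {W | IsAffineOpen W} (IndCohLib.exists_cover_basis (𝔛.X 0).isBasis_affineOpens) hU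
      fun V hV => acyc_of_cohD hloc hG hV
  let Ψ : (dgen (𝔛.Osh hloc.1) U j ⟶ G) ≃ MSec M U :=
    (Equiv.ofBijective _ hb).trans (_root_.ModSiteLib.freeOnEquiv M U)
  have hΨ : ∀ x, Ψ ((DerivedCategory.singleFunctor (ModF 𝔛 hloc.1) j).map (μ hloc t) ≫ x) = (t • Ψ x : MSec M U) :=
    fun x => (congrArg (_root_.ModSiteLib.freeOnEquiv M U) (Φ_single_comp (μ hloc t) x)).trans (freeOnEquiv_μ hloc t _)
  have hadd : ∀ x y, Ψ (x + y) = Ψ x + Ψ y := fun x y =>
    (congrArg (_root_.ModSiteLib.freeOnEquiv M U) (Φ_add x y)).trans (ModCohLib.freeOnEquiv_add M U _ _)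
  have h0 : Ψ 0 = 0 := by
    have h := hadd 0 0
    rw [add_zero] at h
    exact left_eq_add.1 h
  obtain ⟨h₁, h₂⟩ := existsUnique_shift (hG j) hU ht
  refine ⟨fun a ha n => Ψ.injective (Eq.trans ?_ h0.symm), fun g => ?_⟩
  · exact h₁ (fun k => Ψ (a k)) (fun k => (congrArg Ψ (ha k)).trans (hΨ _)) n
  · obtain ⟨a, ha⟩ := h₂ fun k => Ψ (g k)
    refine ⟨fun k => Ψ.symm (a k), fun k => Ψ.injective ?_⟩
    rw [hadd, hΨ, Ψ.apply_symm_apply, Ψ.apply_symm_apply]
    exact ha k

section Chain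

variable {j : ℤ} {J : CochainComplex (ModF 𝔛 hloc.1) ℤ} (s : gen (𝔛.Osh hloc.1) U j ⟶ J) [QuasiIso s]
  (G : DerivedCategory (ModF 𝔛 hloc.1)) (hG : CohD hloc G)

theorem isIso_Q_EC_map {K K' : CochainComplex (ModF 𝔛 hloc.1) ℤ} (f : K ⟶ K') [QuasiIso f] :
    IsIso (DerivedCategory.Q.map ((EC hloc U).map f)) :=
  haveI : (DTorsLib.EF hloc U).PreservesHomology := Functor.preservesHomologyOfExact _
  (DerivedCategory.isIso_Q_map_iff_quasiIso (C := ModF 𝔛 hloc.1) _).2 (quasiIso_map_of_preservesHomology f (DTorsLib.EF hloc U))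

include s hG in
theorem shiftEq_EC (hU : IsAffineOpen U) (ht : TopNil hloc t) :
    ShiftEq (DerivedCategory.Q.map (τC hloc t J)) G := by
  haveI := isIso_εC_gen hloc (U := U) j
  haveI := isIso_Q_EC_map hloc (U := U) s
  haveI : IsIso (DerivedCategory.Q.map (εC hloc U (gen (𝔛.Osh hloc.1) U j))) := inferInstance
  have hc : τC hloc t (gen (𝔛.Osh hloc.1) U j) ≫ εC hloc U _ =
      εC hloc U _ ≫ (single (ModF 𝔛 hloc.1) (ComplexShape.up ℤ) j).map (μ hloc t) := by
    rw [← IsIso.inv_comp_eq]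
    refine from_single_hom_ext ?_
    haveI := isIso_ε_freeOn (O := 𝔛.Osh hloc.1) (U := U)
    let e := singleObjXSelf (ComplexShape.up ℤ) j (ModSite.freeOn (𝔛.Osh hloc.1) U)
    let ε := DTorsLib.εF hloc U
    let τ := DTorsLib.OpenExt.τ (O := 𝔛.Osh hloc.1) t
    haveI : IsIso (ε.app ((gen (𝔛.Osh hloc.1) U j).X j)) := (NatTrans.isIso_app_iff_of_iso ε e).2 inferInstance
    haveI : IsIso ((εC hloc U (gen (𝔛.Osh hloc.1) U j)).f j) := inferInstanceAs (IsIso (ε.app _))
    refine (cancel_epi ((εC hloc U (gen (𝔛.Osh hloc.1) U j)).f j)).1 ?_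
    rw [← comp_f, ← Category.assoc, IsIso.hom_inv_id, Category.id_comp, comp_f, single_map_f_self]
    refine (cancel_mono e.hom).1 ?_
    simp only [e, Category.assoc, Iso.inv_hom_id, Category.comp_id]
    show τ.app _ ≫ ε.app _ ≫ e.hom = ε.app _ ≫ e.hom ≫ μ hloc t
    exact endo_conj_aux τ ε e.hom
  have h0 := shiftEq_dgen hloc t hU ht j G hG
  have h1 : ShiftEq (DerivedCategory.Q.map (τC hloc t (gen (𝔛.Osh hloc.1) U j))) G :=
    (shiftEq_iff (DerivedCategory.Q.map (εC hloc U _)) bijective_comp_iso (by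
      rw [← Functor.map_comp, hc, Functor.map_comp]
      rfl)).2 h0
  exact (shiftEq_iff (DerivedCategory.Q.map ((EC hloc U).map s)) bijective_comp_iso (by
    rw [← Functor.map_comp, τC_naturality, Functor.map_comp])).1 h1

/-- The iterated torsion of a complex. -/
abbrev cutC (L : List (RSec (𝔛.Osh hloc.1) U)) (K : CochainComplex (ModF 𝔛 hloc.1) ℤ) :
    CochainComplex (ModF 𝔛 hloc.1) ℤ :=
  ((DTorsLib.cut hloc L).1.mapHomologicalComplex (ComplexShape.up ℤ)).obj K

/-- Its map back. -/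
def jC (L : List (RSec (𝔛.Osh hloc.1) U)) (K : CochainComplex (ModF 𝔛 hloc.1) ℤ) : cutC hloc L K ⟶ K where
  f n := (DTorsLib.cut hloc L).2.app (K.X n)
  comm' a b _ := ((DTorsLib.cut hloc L).2.naturality (K.d a b)).symm

include s hG in
theorem bijective_cut (hU : IsAffineOpen U) (hJ : ∀ i, DTorsLib.IsDiv hloc (J.X i))
    (L : List (RSec (𝔛.Osh hloc.1) U)) (hL : ∀ z ∈ L, TopNil hloc z) :
    Function.Bijective fun x : DerivedCategory.Q.obj ((EC hloc U).obj J) ⟶ G =>
      DerivedCategory.Q.map ((EC hloc U).map (jC hloc L J)) ≫ x := by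
  induction L generalizing G with
  | nil =>
    have e : jC hloc ([] : List (RSec (𝔛.Osh hloc.1) U)) J = (Functor.mapHomologicalComplexIdIso
        (ModF 𝔛 hloc.1) (ComplexShape.up ℤ)).hom.app J := HomologicalComplex.hom_ext _ _ fun _ => rfl
    haveI : IsIso (jC hloc ([] : List (RSec (𝔛.Osh hloc.1) U)) J) := e ▸ Iso.isIso_hom
      ((Functor.mapHomologicalComplexIdIso (ModF 𝔛 hloc.1) (ComplexShape.up ℤ)).app J)
    exact bijective_comp_iso
  | cons t L ih =>
    let A := cutC hloc L J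
    let f : cutC hloc (t :: L) J ⟶ (EC hloc U).obj A :=
      { f := fun i => kernel.ι ((DTorsLib.locMap hloc t).app ((DTorsLib.cut hloc L).1.obj (J.X i)))
        comm' := fun a b _ => (kernel.lift_ι _ _ _).symm }
    let g := (NatTrans.mapHomologicalComplex (DTorsLib.locMap hloc t) (ComplexShape.up ℤ)).app A
    let S := ShortComplex.mk f g (HomologicalComplex.hom_ext _ _ fun i => kernel.condition _)
    have hS : S.ShortExact := HomologicalComplex.shortExact_of_degreewise_shortExact S fun i =>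
      { exact := ShortComplex.exact_of_f_is_kernel _
          (kernelIsKernel ((DTorsLib.locMap hloc t).app ((DTorsLib.cut hloc L).1.obj (J.X i))))
        mono_f := inferInstanceAs (Mono (kernel.ι ((DTorsLib.locMap hloc t).app ((DTorsLib.cut hloc L).1.obj (J.X i)))))
        epi_g := DTorsLib.epi_locMap_cut hloc hU t L (hJ i) }
    have ih' := fun G' (hG' : CohD hloc G') => ih G' hG' fun z hz => hL z (List.mem_cons_of_mem t hz)
    have hsh : ∀ G', CohD hloc G' → ShiftEq (DerivedCategory.Q.map (τC hloc t A)) G' := fun G' hG' =>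
      (shiftEq_iff (DerivedCategory.Q.map ((EC hloc U).map (jC hloc L J))) (ih' G' hG') (by
        rw [← Functor.map_comp, τC_naturality, Functor.map_comp])).2
        (shiftEq_EC hloc t s G' hG' hU (hL t List.mem_cons_self))
    have hv : ∀ G', CohD hloc G' → ∀ y : DerivedCategory.Q.obj S.X₃ ⟶ G', y = 0 := fun G' hG' y =>
      hom_Loc_eq_zero hloc t A G' (hsh G' hG').1 (hsh _ (hG'.shift hloc (-1))).2 y
    have hf : Function.Bijective fun x : DerivedCategory.Q.obj S.X₂ ⟶ G => DerivedCategory.Q.map f ≫ x := by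
      have hT := DerivedCategory.triangleOfSES_distinguished hS
      refine ⟨fun x x' h => sub_eq_zero.1 ?_, fun y => ?_⟩
      · obtain ⟨y, hy⟩ := Triangle.yoneda_exact₂ _ hT (x - x') (by
          show DerivedCategory.Q.map f ≫ (x - x') = 0
          rw [Preadditive.comp_sub, sub_eq_zero]
          exact h)
        rw [hy, hv G hG y]
        exact comp_zero
      · obtain ⟨x, hx⟩ := Triangle.yoneda_exact₂ _ (inv_rot_of_distTriang _ hT) y (by
          apply (shiftFunctor (DerivedCategory (ModF 𝔛 hloc.1)) (1 : ℤ)).map_injective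
          rw [Functor.map_zero]
          refine (cancel_epi ((shiftEquiv (DerivedCategory (ModF 𝔛 hloc.1)) (1 : ℤ)).counitIso.inv.app
            (DerivedCategory.Q.obj S.X₃))).1 ?_
          exact (hv _ (hG.shift hloc 1) _).trans comp_zero.symm)
        exact ⟨x, hx.symm⟩
    haveI hiso : ∀ i, IsIso ((DTorsLib.εF hloc U).app ((DTorsLib.cut hloc (t :: L)).1.obj (J.X i))) := fun i =>
      isIso_ε_of_supported fun W x p hp hpU => by
        obtain ⟨W', k, hp', hk⟩ := eq_zero_res ((f.f i).val.app (op W) x) hp hpU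
        exact ⟨W', k, hp', IndCohLib.inj_of_mono hloc (kernel.ι ((DTorsLib.locMap hloc t).app
          ((DTorsLib.cut hloc L).1.obj (J.X i)))) ((IndCohLib.app_mres hloc _ k x).trans (hk.trans (map_zero _).symm))⟩
    haveI : ∀ i, IsIso ((εC hloc U (cutC hloc (t :: L) J)).f i) := hiso
    haveI : IsIso (εC hloc U (cutC hloc (t :: L) J)) := HomologicalComplex.Hom.isIso_of_components _
    have hj : (EC hloc U).map (jC hloc (t :: L) J) =
        (εC hloc U (cutC hloc (t :: L) J) ≫ f) ≫ (EC hloc U).map (jC hloc L J) := by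
      rw [show jC hloc (t :: L) J = f ≫ εC hloc U A ≫ jC hloc L J from HomologicalComplex.hom_ext _ _ fun i => rfl,
        Functor.map_comp, Functor.map_comp, εC_naturality, Category.assoc]
      refine congrArg (fun q => (EC hloc U).map f ≫ q) ?_
      refine congrArg (fun q => q ≫ (EC hloc U).map (jC hloc L J)) ?_
      refine HomologicalComplex.hom_ext _ _ fun i => ?_
      haveI := mono_ε (O := 𝔛.Osh hloc.1) (U := U) (M := A.X i)
      exact (cancel_mono ((DTorsLib.εF hloc U).app (A.X i))).1 ((DTorsLib.εF hloc U).naturality _)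
    have e : (fun x : DerivedCategory.Q.obj ((EC hloc U).obj J) ⟶ G =>
        DerivedCategory.Q.map ((EC hloc U).map (jC hloc (t :: L) J)) ≫ x) =
        (fun x => DerivedCategory.Q.map (εC hloc U (cutC hloc (t :: L) J)) ≫ x) ∘
          ((fun x => DerivedCategory.Q.map f ≫ x) ∘
            fun x => DerivedCategory.Q.map ((EC hloc U).map (jC hloc L J)) ≫ x) := funext fun x => by
      rw [hj]
      simp only [Function.comp_apply, Functor.map_comp, Category.assoc]
    rw [e]
    exact bijective_comp_iso.comp (hf.comp (ih' G hG))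

end Chain

variable [FTors.HasRgammaT 𝔛 hloc.1]

/-- Precomposition with the torsion map is bijective out of the free module on an affine open. -/
theorem bijective_dgen (hU : IsAffineOpen U) (j : ℤ) (G : DerivedCategory (ModF 𝔛 hloc.1)) (hG : CohD hloc G) :
    Function.Bijective fun x : dgen (𝔛.Osh hloc.1) U j ⟶ G =>
      (FTors.RgammaTε 𝔛 hloc.1).app (dgen (𝔛.Osh hloc.1) U j) ≫ x := by
  let A := ModF 𝔛 hloc.1
  obtain ⟨J, s, hJ, hs, hinj⟩ := DerLib.KInjRes.exists_resolution (gen (𝔛.Osh hloc.1) U j)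
  haveI := hJ
  haveI : QuasiIso s := (HomologicalComplex.mem_quasiIso_iff _).1 hs.2
  have hdiv : ∀ i, DTorsLib.IsDiv hloc (J.X i) := fun i => haveI := hinj i; DTorsLib.isDiv_of_injective hloc _
  obtain ⟨L, hL, hL₁, hL₂⟩ := DTorsLib.exists_torsion_funcs' hloc hU
  obtain ⟨θ, hθ⟩ := DTorsLib.exists_iso_EF_gammaT' hloc hL₁ hL₂
  let Γ := DTorsLib.gammaCx hloc J
  let ι := DTorsLib.gammaCxι hloc J
  let θC : (EC hloc U).obj (cutC hloc L J) ≅ (EC hloc U).obj Γ :=
    HomologicalComplex.Hom.isoOfComponents (fun i => θ.app (J.X i)) fun a b _ => (θ.hom.naturality (J.d a b)).symm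
  have h1 : Function.Bijective fun x : DerivedCategory.Q.obj ((EC hloc U).obj J) ⟶ G =>
      DerivedCategory.Q.map ((EC hloc U).map ι) ≫ x :=
    bijective_precomp_conj (DerivedCategory.Q.map θC.hom) (𝟙 _) (by
      rw [← Functor.map_comp, Category.comp_id]
      exact congrArg DerivedCategory.Q.map (HomologicalComplex.hom_ext _ _ fun i => hθ (J.X i)))
      (bijective_cut hloc s G hG hU hdiv L hL)
  haveI := isIso_εC_gen hloc (U := U) j
  haveI hεJ : IsIso (DerivedCategory.Q.map (εC hloc U J)) := by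
    haveI := isIso_Q_EC_map hloc (U := U) s
    haveI : IsIso (DerivedCategory.Q.map s) := (DerivedCategory.isIso_Q_map_iff_quasiIso (C := ModF 𝔛 hloc.1) _).2 inferInstance
    refine IsIso.of_isIso_fac_left (f := DerivedCategory.Q.map ((EC hloc U).map s))
      (h := DerivedCategory.Q.map (εC hloc U _) ≫ DerivedCategory.Q.map s) ?_
    rw [← Functor.map_comp, ← Functor.map_comp, εC_naturality]
  haveI : IsIso (DerivedCategory.Q.map (εC hloc U Γ)) := by
    haveI : QuasiIso (εC hloc U J) := (DerivedCategory.isIso_Q_map_iff_quasiIso (C := ModF 𝔛 hloc.1) _).1 hεJ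
    haveI hG' := DTorsLib.quasiIso_gammaT_map hloc (εC hloc U J) (fun i => isDiv_EF hloc (hdiv i)) hdiv
    let Γ' := DTorsLib.gammaCx hloc ((EC hloc U).obj J)
    let g : Γ' ⟶ Γ := ((FTors.gammaT 𝔛 hloc.1).mapHomologicalComplex _).map (εC hloc U J)
    haveI : ∀ i, IsIso ((εC hloc U Γ').f i) := fun i => isIso_ε_gammaT hloc (M := J.X i)
    haveI : IsIso (εC hloc U Γ') := HomologicalComplex.Hom.isIso_of_components _
    haveI : QuasiIso g := hG'
    haveI := isIso_Q_EC_map hloc (U := U) g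
    haveI : IsIso (DerivedCategory.Q.map g) := (DerivedCategory.isIso_Q_map_iff_quasiIso (C := ModF 𝔛 hloc.1) _).2 inferInstance
    refine IsIso.of_isIso_fac_left (f := DerivedCategory.Q.map ((EC hloc U).map g))
      (h := DerivedCategory.Q.map (εC hloc U _) ≫ DerivedCategory.Q.map g) ?_
    rw [← Functor.map_comp, ← Functor.map_comp, εC_naturality]
  have h2 : Function.Bijective fun x : DerivedCategory.Q.obj J ⟶ G => DerivedCategory.Q.map ι ≫ x :=
    bijective_precomp_conj (DerivedCategory.Q.map (εC hloc U Γ)) (DerivedCategory.Q.map (εC hloc U J))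
      (by rw [← Functor.map_comp, ← Functor.map_comp, εC_naturality]) h1
  let R := FTors.RgammaT 𝔛 hloc.1
  let ε := FTors.RgammaTε 𝔛 hloc.1
  let q := HomotopyCategory.quotient A (ComplexShape.up ℤ)
  let c := DerivedCategory.quotientCompQhIso A
  have h3 : Function.Bijective fun x : DerivedCategory.Qh.obj (q.obj J) ⟶ G =>
      DerivedCategory.Qh.map (q.map ι) ≫ x :=
    bijective_precomp_conj (c.inv.app Γ) (c.inv.app J) (c.inv.naturality ι).symm h2
  haveI := DTorsLib.isIso_gUnit hloc J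
  have h4 : Function.Bijective fun x : DerivedCategory.Qh.obj (q.obj J) ⟶ G =>
      ε.app (DerivedCategory.Qh.obj (q.obj J)) ≫ x :=
    bijective_precomp_conj ((DTorsLib.gUnit hloc).app (q.obj J)) (𝟙 _)
      (((DTorsLib.gUnit_ε hloc _).trans (DTorsLib.gammaτ_app hloc J)).trans (Category.comp_id _).symm) h3
  haveI : IsIso (DerivedCategory.Q.map s) := (DerivedCategory.isIso_Q_map_iff_quasiIso (C := ModF 𝔛 hloc.1) _).2 inferInstance
  let e : DerivedCategory.Qh.obj (q.obj J) ≅ dgen (𝔛.Osh hloc.1) U j :=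
    c.app J ≪≫ (asIso (DerivedCategory.Q.map s)).symm
  exact bijective_precomp_conj (R.map e.hom) e.hom (ε.naturality e.hom) h4

/-- **Complexes with coherent cohomology are local for derived torsion.** -/
theorem precomp_rgammaTε_bijective (E F : DerivedCategory (ModF 𝔛 hloc.1)) (hF : CohD hloc F) :
    Function.Bijective fun φ : E ⟶ F => (FTors.RgammaTε 𝔛 hloc.1).app E ≫ φ := by
  let R := FTors.RgammaT 𝔛 hloc.1
  let ε := FTors.RgammaTε 𝔛 hloc.1
  haveI := DTorsLib.isLeftAdjoint_rgammaT hloc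
  let adj := Adjunction.ofIsLeftAdjoint R
  let η : F ⟶ R.rightAdjoint.obj F := adj.homEquiv _ _ (ε.app F)
  have key : ∀ {E' : DerivedCategory (ModF 𝔛 hloc.1)} (φ : E' ⟶ F),
      adj.homEquiv _ _ (ε.app E' ≫ φ) = φ ≫ η := fun φ =>
    (congrArg (adj.homEquiv _ _) (ε.naturality φ).symm).trans (adj.homEquiv_naturality_left φ (ε.app F))
  have hη : IsIso η := by
    rw [DerivedCategory.isIso_iff]
    intro j
    refine ModCohLib.isIso_of_locally η j fun U => ?_
    obtain ⟨ι, Y, g, hg, hY⟩ := IndCohLib.exists_cover_basis (𝔛.X 0).isBasis_affineOpens U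
    refine ⟨ι, Y, g, hg, fun i => ⟨_, η, 𝟙 _, (Category.comp_id _).symm, inferInstance,
      ModCohLib.cofinalCover_of_forall _ {W | IsAffineOpen W}
        (IndCohLib.exists_cover_basis (𝔛.X 0).isBasis_affineOpens) (fun W hW => ?_) (Y i)⟩⟩
    have e : (fun x : dgen (𝔛.Osh hloc.1) W j ⟶ F => x ≫ η) =
        adj.homEquiv _ _ ∘ fun x => ε.app (dgen (𝔛.Osh hloc.1) W j) ≫ x := funext fun x => (key x).symm
    show Function.Bijective _
    rw [e]
    exact (Equiv.bijective _).comp (bijective_dgen hloc hW j F hF)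
  refine (Function.Bijective.of_comp_iff' (adj.homEquiv E F).bijective _).1 ?_
  rw [show (adj.homEquiv E F) ∘ (fun φ : E ⟶ F => ε.app E ≫ φ) = fun φ => φ ≫ η from funext key]
  exact (asIso η).homToEquiv.bijective

end FColocLib

end
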